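import Groth.Prelude.Def_PolLaw
import Groth.Prelude.Def_FrobAlg
import Mathlib.Algebra.MvPolynomial.PDeriv
import Mathlib.Algebra.CharP.Algebra
import Mathlib.RingTheory.Localization.FractionRing
import Mathlib.RingTheory.Localization.Integer
import Mathlib.Algebra.MvPolynomial.Variables
import Mathlib.RingTheory.MvPolynomial.Basic
import Mathlib.Algebra.Field.ZMod
import Mathlib.RingTheory.Finiteness.Defs
import Mathlib.RingTheory.Finiteness.Cardinality

/-!
# The Frobenius law of a field
-/

set_option autoImplicit false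
set_option backward.isDefEq.respectTransparency false
set_option backward.isDefEq.respectTransparency.types false

open scoped TensorProduct

namespace Groth.Agent.FrobLaw

universe u

variable (p : ℕ) [Fact p.Prime] (k : Type u) [CommRing k] [CharP k p]

local notation "K" => FrobAlg.Twist p k

theorem add_pow_p {S : Type u} [CommSemiring S] [Algebra k S] (a b : S) : (a + b) ^ p = a ^ p + b ^ p := by
  obtain ⟨r, hr⟩ := exists_add_pow_prime_eq (Fact.out : p.Prime) a b
  have h0 : (p : S) = 0 := by rw [← map_natCast (algebraMap k S), CharP.cast_eq_zero, map_zero]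
  rw [hr, h0]; simp

theorem symm_smul (r : k) (a : K) :
    (FrobAlg.toTwist p k).symm (r • a) = r ^ p * (FrobAlg.toTwist p k).symm a := by
  rw [Algebra.smul_def, map_mul, FrobAlg.algebraMap_twist, RingEquiv.symm_apply_apply]

variable (S : Type u) [CommSemiring S] [Algebra k S]

noncomputable def bil : S →+ K →+ S ⊗[k] k where
  toFun s :=
    { toFun := fun a => (s ^ p) ⊗ₜ[k] (FrobAlg.toTwist p k).symm a
      map_zero' := by rw [map_zero, TensorProduct.tmul_zero]
      map_add' := fun a b => by rw [map_add, TensorProduct.tmul_add] }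
  map_zero' := by
    refine AddMonoidHom.ext fun a => ?_
    show ((0 : S) ^ p) ⊗ₜ[k] _ = 0
    rw [zero_pow (Fact.out : p.Prime).ne_zero, TensorProduct.zero_tmul]
  map_add' s s' := by
    refine AddMonoidHom.ext fun a => ?_
    show ((s + s') ^ p) ⊗ₜ[k] _ = (s ^ p) ⊗ₜ[k] _ + (s' ^ p) ⊗ₜ[k] _
    rw [add_pow_p p k, TensorProduct.add_tmul]

noncomputable def lawFun : S ⊗[k] K →+ S ⊗[k] k :=
  TensorProduct.liftAddHom (bil p k S) fun r s a => by
    show ((r • s) ^ p) ⊗ₜ[k] _ = (s ^ p) ⊗ₜ[k] _
    rw [symm_smul, smul_pow, TensorProduct.smul_tmul, smul_eq_mul]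

theorem lawFun_tmul (s : S) (a : K) :
    lawFun p k S (s ⊗ₜ[k] a) = (s ^ p) ⊗ₜ[k] (FrobAlg.toTwist p k).symm a := rfl

theorem lawFun_smul (s : S) (x : S ⊗[k] K) : lawFun p k S (s • x) = s ^ p • lawFun p k S x := by
  induction x using TensorProduct.induction_on with
  | zero => simp
  | tmul t a => rw [TensorProduct.smul_tmul', lawFun_tmul, lawFun_tmul, TensorProduct.smul_tmul', smul_eq_mul, smul_eq_mul, mul_pow]
  | add x y hx hy => rw [smul_add, map_add, map_add, hx, hy, smul_add]

theorem lawFun_mul (x y : S ⊗[k] K) : lawFun p k S (x * y) = lawFun p k S x * lawFun p k S y := by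
  induction x using TensorProduct.induction_on with
  | zero => simp
  | add x z hx hz => rw [add_mul, map_add, map_add, hx, hz, add_mul]
  | tmul s a =>
    induction y using TensorProduct.induction_on with
    | zero => simp
    | add y z hy hz => rw [mul_add, map_add, map_add, hy, hz, mul_add]
    | tmul t b =>
      rw [Algebra.TensorProduct.tmul_mul_tmul, lawFun_tmul, lawFun_tmul, lawFun_tmul,
        Algebra.TensorProduct.tmul_mul_tmul, mul_pow, map_mul]

/-- The law `a ↦ a ^ p`. -/
noncomputable def law : PolLaw.MulLaw k K k p where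
  law :=
    { toFun' := fun S _ _ => lawFun p k S
      isCompat' := fun {S} _ _ {S'} _ _ φ => by
        funext x
        show φ.toLinearMap.rTensor k (lawFun p k S x) = lawFun p k S' (φ.toLinearMap.rTensor _ x)
        induction x using TensorProduct.induction_on with
        | zero => simp
        | tmul s a =>
          rw [lawFun_tmul, LinearMap.rTensor_tmul, LinearMap.rTensor_tmul, lawFun_tmul]
          simp [map_pow]
        | add x y hx hy => simp only [map_add, hx, hy] }
  homog S _ _ s x := lawFun_smul p k S s x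
  mult S _ _ := ⟨by
    show lawFun p k S 1 = 1
    rw [Algebra.TensorProduct.one_def, lawFun_tmul, one_pow, map_one, Algebra.TensorProduct.one_def],
    lawFun_mul p k S⟩

omit [Fact p.Prime] in
theorem ker_eq_bot {p : ℕ} [Fact p.Prime] {k : Type u} [Field k] [CharP k p]
    (F : PolLaw.MulLaw k (FrobAlg.Twist p k) k p)
    (hF : ∀ (S : Type u) [CommSemiring S] [Algebra k S] (s : S) (a : FrobAlg.Twist p k),
      F.law.toFun' S (s ⊗ₜ[k] a) = (s ^ p) ⊗ₜ[k] (FrobAlg.toTwist p k).symm a) :
    PolLaw.ker F.law = ⊥ := by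
  refine eq_bot_iff.2 fun b hb => ?_
  have h : F.law.toFun' k ((0 : k ⊗[k] FrobAlg.Twist p k) + 1 * ((1 : k) ⊗ₜ[k] b)) =
      F.law.toFun' k 0 := hb k 0 1
  rw [zero_add, one_mul, hF, show (0 : k ⊗[k] FrobAlg.Twist p k) = (0 : k) ⊗ₜ[k] (0 : FrobAlg.Twist p k) from
    (TensorProduct.zero_tmul _ _).symm, hF] at h
  have h2 := congrArg (TensorProduct.rid k k) h
  simp [zero_pow (Fact.out : p.Prime).ne_zero] at h2
  exact (Ideal.mem_bot).2 ((FrobAlg.toTwist p k).symm.map_eq_zero_iff.1 h2)

theorem not_finite (q : ℕ) [Fact q.Prime] :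
    ¬ Module.Finite (FractionRing (MvPolynomial ℕ (ZMod q)))
      (FrobAlg.Twist q (FractionRing (MvPolynomial ℕ (ZMod q)))) := by
  classical
  intro hfin
  let P := MvPolynomial ℕ (ZMod q)
  let L := FractionRing P
  let t := FrobAlg.toTwist q L
  obtain ⟨n, b, hb⟩ := Module.Finite.exists_fin (R := L) (M := FrobAlg.Twist q L)
  obtain ⟨d, hd⟩ := IsLocalization.exist_integer_multiples (nonZeroDivisors P) Finset.univ (fun i => t.symm (b i))
  choose F hF using fun i => hd i (Finset.mem_univ i)
  obtain ⟨N, hN⟩ := Infinite.exists_notMem_finset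
    ((d : P).vars ∪ Finset.univ.biUnion (fun i => (F i).vars))
  obtain ⟨c, hc⟩ := Submodule.mem_span_range_iff_exists_fun L |>.1
    (hb ▸ Submodule.mem_top : t (algebraMap P L (MvPolynomial.X N)) ∈ Submodule.span L (Set.range b))
  obtain ⟨e, he⟩ := IsLocalization.exist_integer_multiples (nonZeroDivisors P) Finset.univ c
  choose A hA using fun i => he i (Finset.mem_univ i)
  have key : (d : P) * (e : P) ^ q * MvPolynomial.X N = ∑ i, A i ^ q * F i := by
    refine IsFractionRing.injective P L ?_
    have h := congrArg t.symm hc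
    simp only [map_sum, symm_smul, t, RingEquiv.symm_apply_apply] at h
    rw [map_mul, ← h, map_mul, map_pow, Finset.mul_sum, map_sum]
    refine Finset.sum_congr rfl fun i _ => ?_
    rw [map_mul, map_pow, hA i, hF i, Algebra.smul_def, Algebra.smul_def, mul_pow]
    ring
  have hz : ∀ f : P, N ∉ f.vars → MvPolynomial.pderiv N f = 0 := fun f hf =>
    MvPolynomial.pderiv_eq_zero_of_notMem_vars hf
  have hq : (q : P) = 0 := CharP.cast_eq_zero P q
  have hpow : ∀ f : P, MvPolynomial.pderiv N (f ^ q) = 0 := fun f => by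
    rw [MvPolynomial.pderiv_pow, hq]; simp
  have h := congrArg (MvPolynomial.pderiv N) key
  have hd0 : MvPolynomial.pderiv N (d : P) = 0 := hz _ fun hm => hN (Finset.mem_union_left _ hm)
  have hne : (d : P) * (e : P) ^ q ≠ 0 :=
    mul_ne_zero (nonZeroDivisors.ne_zero d.2) (pow_ne_zero _ (nonZeroDivisors.ne_zero e.2))
  rw [map_sum, Finset.sum_eq_zero (fun i _ => by
    rw [MvPolynomial.pderiv_mul, hpow,
      hz (F i) fun hm => hN (Finset.mem_union_right _ (Finset.mem_biUnion.2 ⟨i, Finset.mem_univ i, hm⟩))]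
    simp), MvPolynomial.pderiv_mul, MvPolynomial.pderiv_mul, hpow, hd0, MvPolynomial.pderiv_X_self] at h
  exact hne (by simpa using h :)

end Groth.Agent.FrobLaw
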